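import Cfsg.Agent.H70.ClassNumber
import Cfsg.Agent.H43.ConjDouble
import Cfsg.Agent.S4201
import Cfsg.Agent.S3681

/-!
Number of conjugacy classes of permutation groups.
-/

set_option autoImplicit false
set_option linter.all false

namespace Cfsg.Agent.H2.K5

/-- number of conjugacy classes -/
noncomputable abbrev K (G : Type*) [Group G] : ℕ := Nat.card (ConjClasses G)

theorem card_le_of_fiber {α β : Type*} [Finite α] [Finite β] (f : α → β) (k : ℕ)
    (h : ∀ b, Nat.card {a // f a = b} ≤ k) : Nat.card α ≤ Nat.card β * k := by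
  haveI : Fintype β := Fintype.ofFinite β
  have h1 : Nat.card α = ∑ z, Nat.card {y : α // f y = z} := by
    rw [← Nat.card_sigma]
    exact Nat.card_congr (Equiv.sigmaFiberEquiv f).symm
  rw [h1]
  refine le_trans (Finset.sum_le_card_nsmul _ _ _ (fun z _ => h z)) ?_
  rw [smul_eq_mul, Finset.card_univ, Nat.card_eq_fintype_card]

/-- `|C_G(x)| ≤ |G : H| |C_H(x)|` -/
theorem card_comm_le {G : Type*} [Group G] [Finite G] (H : Subgroup G) (x : G) :
    Nat.card {y : G // Commute x y} ≤ H.index * Nat.card {y : H // Commute x (y : G)} := by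
  rw [Subgroup.index_eq_card]
  apply card_le_of_fiber (fun y : {y : G // Commute x y} => (y.1 : G ⧸ H))
  intro z
  by_cases hz : ∃ y0 : {y : G // Commute x y}, (y0.1 : G ⧸ H) = z
  · obtain ⟨y0, hy0⟩ := hz
    refine Nat.card_le_card_of_injective (fun y => (⟨⟨y0.1⁻¹ * y.1.1, ?_⟩, ?_⟩ : {n : H // Commute x (n : G)})) ?_
    · have h1 : (y0.1 : G ⧸ H) = (y.1.1 : G ⧸ H) := by rw [hy0, y.2]
      exact QuotientGroup.eq.mp h1
    · exact (y0.2.inv_right).mul_right y.1.2
    · intro a b hab
      have h1 := congrArg (fun q : {n : H // Commute x (n : G)} => ((q.1 : H) : G)) hab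
      have h2 : a.1.1 = b.1.1 := mul_left_cancel h1
      exact Subtype.ext (Subtype.ext h2)
  · have : IsEmpty {y : {y : G // Commute x y} // (y.1 : G ⧸ H) = z} := ⟨fun y => hz ⟨y.1, y.2⟩⟩
    simp

/-- `k(G) ≤ |G : H| k(H)` -/
theorem card_le_index_mul {G : Type*} [Group G] [Finite G] (H : Subgroup G) : K G ≤ H.index * K H := by
  classical
  haveI : Fintype G := Fintype.ofFinite G
  have hG := H70.card_commuting_eq_sum (X := G)
  have hH := H70.card_commuting_eq_sum (X := H)
  have e1 : ∑ x : G, Nat.card {y : H // Commute x (y : G)} = ∑ h : H, Nat.card {x : G // Commute (h : G) x} := by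
    rw [← Nat.card_sigma, ← Nat.card_sigma]
    apply Nat.card_congr
    exact ⟨fun p => ⟨p.2.1, ⟨p.1, p.2.2.symm⟩⟩, fun p => ⟨p.2.1, ⟨p.1, p.2.2.symm⟩⟩, fun p => rfl, fun p => rfl⟩
  have h1 : K G * Nat.card G ≤ H.index * (H.index * (K H * Nat.card H)) := by
    calc K G * Nat.card G = ∑ x : G, Nat.card {y : G // Commute x y} := hG
      _ ≤ ∑ x : G, H.index * Nat.card {y : H // Commute x (y : G)} :=
          Finset.sum_le_sum fun x _ => card_comm_le H x
      _ = H.index * ∑ h : H, Nat.card {x : G // Commute (h : G) x} := by rw [← Finset.mul_sum, e1]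
      _ ≤ H.index * ∑ h : H, H.index * Nat.card {y : H // Commute (h : G) (y : G)} :=
          Nat.mul_le_mul_left _ (Finset.sum_le_sum fun h _ => card_comm_le H h.1)
      _ = H.index * (H.index * (K H * Nat.card H)) := by
          rw [← Finset.mul_sum, hH]
          congr 2
          refine Finset.sum_congr rfl fun h _ => Nat.card_congr (Equiv.subtypeEquivRight fun y => ?_)
          exact ⟨fun h => Subtype.ext h, fun h => congrArg Subtype.val h⟩
  have h3 : Nat.card G = Nat.card H * H.index := (Subgroup.card_mul_index H).symm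
  have h4 : 0 < Nat.card G := Nat.card_pos
  apply Nat.le_of_mul_le_mul_right _ h4
  calc K G * Nat.card G ≤ H.index * (H.index * (K H * Nat.card H)) := h1
    _ = H.index * K H * Nat.card G := by rw [h3]; ring

/-- `k(H) ≤ |G : H| k(G)` -/
theorem card_sub_le {G : Type*} [Group G] [Finite G] (H : Subgroup G) : K H ≤ H.index * K G := by
  have h1 := Subgroup.commProb_subgroup_le H
  rw [commProb_def', commProb_def'] at h1
  have hH : (0 : ℚ) < Nat.card H := by exact_mod_cast Nat.card_pos
  have hG : (0 : ℚ) < Nat.card G := by exact_mod_cast Nat.card_pos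
  have h3 : (Nat.card G : ℚ) = Nat.card H * H.index := by exact_mod_cast (Subgroup.card_mul_index H).symm
  rw [div_mul_eq_mul_div, div_le_div_iff₀ hH hG] at h1
  have h5 : (K H : ℚ) * (Nat.card H * H.index) ≤ (K G : ℚ) * H.index ^ 2 * Nat.card H := by
    rw [← h3]; exact h1
  have hi : (0 : ℚ) < H.index := by exact_mod_cast Nat.pos_of_ne_zero Subgroup.index_ne_zero_of_finite
  have h6 : (K H : ℚ) ≤ H.index * K G := by
    have h7 : (0 : ℚ) < Nat.card H * H.index := mul_pos hH hi
    apply le_of_mul_le_mul_right _ h7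
    calc (K H : ℚ) * (Nat.card H * H.index) ≤ (K G : ℚ) * H.index ^ 2 * Nat.card H := h5
      _ = H.index * K G * (Nat.card H * H.index) := by ring
  exact_mod_cast h6

/-- `k(G) ≤ k(ker f) k(im f)` -/
theorem card_le_ker_mul_range {G H : Type*} [Group G] [Finite G] [Group H] (f : G →* H) :
    K G ≤ K f.ker * K f.range := by
  have h1 := Cfsg.Agent.S4201.result f.ker
  rw [H43.card_conj_congr (QuotientGroup.quotientKerEquivRange f)] at h1
  exact h1

theorem K_of_subsingleton {G : Type*} [Group G] [Subsingleton G] : K G = 1 := by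
  haveI : Subsingleton (ConjClasses G) := by
    constructor
    intro a b
    obtain ⟨x, rfl⟩ := ConjClasses.exists_rep a
    obtain ⟨y, rfl⟩ := ConjClasses.exists_rep b
    rw [Subsingleton.elim x y]
  haveI : Nonempty (ConjClasses G) := ⟨ConjClasses.mk 1⟩
  exact Nat.card_unique

/-- the statement for degree `n` -/
def PP (n : ℕ) : Prop := ∀ (G Ω : Type) [Group G] [Finite G] [Finite Ω] [MulAction G Ω] [FaithfulSMul G Ω],
  Nat.card Ω = n → 5 * K G ≤ 5 ^ n

/-- action on an invariant subset -/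
def subAct {G Ω : Type} [Group G] [MulAction G Ω] (P : Ω → Prop) (h : ∀ (g : G) x, P x → P (g • x)) :
    MulAction G {x // P x} where
  smul g x := ⟨g • x.1, h g x.1 x.2⟩
  one_smul x := Subtype.ext (one_smul G x.1)
  mul_smul g g' x := Subtype.ext (mul_smul g g' x.1)

theorem PP.range {m : ℕ} (h : PP m) {G S : Type} [Group G] [Finite G] [Finite S] (hS : Nat.card S = m)
    (f : G →* Equiv.Perm S) : 5 * K f.range ≤ 5 ^ m := h f.range S hS

theorem fib (n : ℕ) (IH : ∀ m, 1 ≤ m → m < n → PP m) : ∀ (k : ℕ) (G Ω I : Type) [Group G] [Finite G] [Finite Ω]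
    [Finite I] [MulAction G Ω] [FaithfulSMul G Ω] (π : Ω → I), Function.Surjective π →
    (∀ (g : G) x, π (g • x) = π x) → (∀ i, Nat.card {x // π x = i} < n) → Nat.card I = k →
    5 ^ k * K G ≤ 5 ^ (Nat.card Ω) := by
  intro k
  induction k with
  | zero =>
    intro G Ω I _ _ _ _ _ _ π hs hinv hfib hI
    haveI : IsEmpty I := by
      rcases Nat.card_eq_zero.1 hI with h | h
      · exact h
      · exact absurd ‹Finite I› (by rw [not_finite_iff_infinite]; exact h)
    haveI : IsEmpty Ω := ⟨fun x => IsEmpty.false (π x)⟩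
    haveI : Subsingleton G := ⟨fun a b => FaithfulSMul.eq_of_smul_eq_smul (α := Ω) (fun x => (IsEmpty.false x).elim)⟩
    rw [K_of_subsingleton]
    simp
  | succ k ih =>
    intro G Ω I _ _ _ _ _ _ π hs hinv hfib hI
    classical
    haveI : Nonempty I := by
      by_contra h
      rw [not_nonempty_iff] at h
      rw [Nat.card_of_isEmpty] at hI
      omega
    obtain ⟨i0⟩ := ‹Nonempty I›
    letI a1 : MulAction G {x // π x = i0} := subAct (fun x => π x = i0) (fun g x hx => by rw [hinv]; exact hx)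
    let f := MulAction.toPermHom G {x // π x = i0}
    have h1 := card_le_ker_mul_range f
    obtain ⟨x0, hx0⟩ := hs i0
    have hc1 : 1 ≤ Nat.card {x // π x = i0} := by
      haveI : Nonempty {x // π x = i0} := ⟨⟨x0, hx0⟩⟩
      exact Nat.card_pos
    have h3 := (IH _ hc1 (hfib i0)).range rfl f
    letI a2 : MulAction f.ker {x // π x ≠ i0} := subAct (fun x => π x ≠ i0)
      (fun g x hx => by
        have : π (g • x) = π x := hinv g.1 x
        rw [this]; exact hx)
    haveI : FaithfulSMul f.ker {x // π x ≠ i0} := by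
      constructor
      intro g g' hgg
      apply Subtype.ext
      apply FaithfulSMul.eq_of_smul_eq_smul (α := Ω)
      intro x
      by_cases hx : π x = i0
      · have e1 : (g.1 • (⟨x, hx⟩ : {x // π x = i0})) = ⟨x, hx⟩ := by
          have := g.2
          rw [MonoidHom.mem_ker] at this
          exact DFunLike.congr_fun this _
        have e2 : (g'.1 • (⟨x, hx⟩ : {x // π x = i0})) = ⟨x, hx⟩ := by
          have := g'.2
          rw [MonoidHom.mem_ker] at this
          exact DFunLike.congr_fun this _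
        exact (congrArg Subtype.val e1).trans (congrArg Subtype.val e2).symm
      · exact congrArg Subtype.val (hgg ⟨x, hx⟩)
    have hIk : Nat.card {i : I // i ≠ i0} = k := by
      haveI : Fintype I := Fintype.ofFinite I
      have h5 : Fintype.card {i : I // i ≠ i0} = Fintype.card I - 1 := by
        have := Fintype.card_subtype_compl (fun i : I => i = i0)
        rw [Fintype.card_subtype_eq] at this
        exact this
      rw [Nat.card_eq_fintype_card, h5, ← Nat.card_eq_fintype_card, hI]
      rfl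
    have h5 := ih f.ker {x // π x ≠ i0} {i : I // i ≠ i0} (fun x => ⟨π x.1, x.2⟩)
      (fun i => by
        obtain ⟨x, hx⟩ := hs i.1
        exact ⟨⟨x, by rw [hx]; exact i.2⟩, Subtype.ext hx⟩)
      (fun g x => Subtype.ext (hinv g.1 x.1))
      (fun i => by
        refine lt_of_le_of_lt ?_ (hfib i.1)
        apply Nat.card_le_card_of_injective
          (fun x : {x : {x // π x ≠ i0} // (⟨π x.1, x.2⟩ : {i : I // i ≠ i0}) = i} =>
            (⟨x.1.1, congrArg Subtype.val x.2⟩ : {x // π x = i.1}))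
        intro a b hab
        have h9 : a.1.1 = b.1.1 := congrArg (fun q : {x // π x = i.1} => q.1) hab
        exact Subtype.ext (Subtype.ext h9))
      hIk
    have hcΩ : Nat.card {x // π x = i0} + Nat.card {x // π x ≠ i0} = Nat.card Ω := by
      rw [← Nat.card_sum]
      exact Nat.card_congr (Equiv.sumCompl (fun x => π x = i0))
    calc 5 ^ (k + 1) * K G ≤ 5 ^ (k + 1) * (K f.ker * K f.range) := Nat.mul_le_mul_left _ h1
      _ = (5 * K f.range) * (5 ^ k * K f.ker) := by rw [pow_succ]; ring
      _ ≤ 5 ^ (Nat.card {x // π x = i0}) * 5 ^ (Nat.card {x // π x ≠ i0}) := Nat.mul_le_mul h3 h5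
      _ = 5 ^ (Nat.card Ω) := by rw [← pow_add, hcΩ]

/-- equivariant surjections -/
theorem equi (n : ℕ) (IH : ∀ m, 1 ≤ m → m < n → PP m) (G Ω J : Type) [Group G] [Finite G] [Finite Ω]
    [MulAction G Ω] [FaithfulSMul G Ω] [MulAction G J] [Nonempty J] (hn : Nat.card Ω = n) (π : Ω → J)
    (hs : Function.Surjective π)
    (hequi : ∀ (g : G) x, π (g • x) = g • π x) (hninj : ¬ Function.Injective π) (hnc : ∃ x y, π x ≠ π y) :
    5 * K G ≤ 5 ^ n := by
  classical
  haveI : Finite J := Finite.of_surjective π hs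
  have hJn : Nat.card J < n := by
    rw [← hn]
    refine lt_of_le_of_ne (Nat.card_le_card_of_surjective π hs) fun h => hninj ?_
    exact ((Nat.bijective_iff_surjective_and_card π).2 ⟨hs, h.symm⟩).1
  let f := MulAction.toPermHom G J
  have h1 := card_le_ker_mul_range f
  have h3 := (IH _ Nat.card_pos hJn).range rfl f
  have h5 := fib n IH (Nat.card J) f.ker Ω J π hs (fun g x => by
      change π (g.1 • x) = π x
      rw [hequi]
      have := g.2
      rw [MonoidHom.mem_ker] at this
      exact DFunLike.congr_fun this _)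
    (fun i => by
      rw [← hn]
      obtain ⟨x, y, hxy⟩ := hnc
      have : ∃ z, π z ≠ i := by
        by_contra hcon
        push Not at hcon
        exact hxy ((hcon x).trans (hcon y).symm)
      obtain ⟨z, hz⟩ := this
      exact Finite.card_subtype_lt (x := z) hz) rfl
  rw [hn] at h5
  have h7 : 5 ^ Nat.card J * (5 * K G) ≤ 5 ^ Nat.card J * 5 ^ n := by
    calc 5 ^ Nat.card J * (5 * K G) ≤ 5 ^ Nat.card J * (5 * (K f.ker * K f.range)) :=
          Nat.mul_le_mul_left _ (Nat.mul_le_mul_left _ h1)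
      _ = (5 ^ Nat.card J * K f.ker) * (5 * K f.range) := by ring
      _ ≤ 5 ^ n * 5 ^ Nat.card J := Nat.mul_le_mul h5 h3
      _ = 5 ^ Nat.card J * 5 ^ n := by ring
  exact Nat.le_of_mul_le_mul_left h7 (by positivity)

open scoped Pointwise

/-- Bochert: primitive groups not containing the alternating group have a base of size at most half the degree -/
theorem exists_base {G Ω : Type} [Group G] [Finite G] [MulAction G Ω] [FaithfulSMul G Ω] [Fintype Ω] [DecidableEq Ω]
    (hprim : MulAction.IsPreprimitive G Ω) (hA : ¬ alternatingGroup Ω ≤ (MulAction.toPermHom G Ω).range) :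
    ∃ Γ : Finset Ω, 2 * Γ.card ≤ Fintype.card Ω ∧ ∀ g : G, (∀ x ∈ Γ, g • x = x) → g = 1 := by
  classical
  -- a smallest base
  let P : ℕ → Prop := fun k => ∃ Γ : Finset Ω, Γ.card = k ∧ ∀ g : G, (∀ x ∈ Γ, g • x = x) → g = 1
  have hP : ∃ k, P k := ⟨Fintype.card Ω, Finset.univ, Finset.card_univ, fun g hg =>
    FaithfulSMul.eq_of_smul_eq_smul (α := Ω) (fun c => by rw [hg c (Finset.mem_univ c), one_smul])⟩
  obtain ⟨Γ, hΓc, hΓ⟩ : P (Nat.find hP) := Nat.find_spec hP
  have hmin : ∀ Δ : Finset Ω, Δ.card < Nat.find hP → ∃ g : G, (∀ x ∈ Δ, g • x = x) ∧ g ≠ 1 := by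
    intro Δ hΔ
    have := Nat.find_min hP hΔ
    by_contra h
    push Not at h
    exact this ⟨Δ, rfl, h⟩
  have hb : 2 * Nat.find hP ≤ Fintype.card Ω := by
    by_contra hlt
    push Not at hlt
    obtain ⟨x, hx, hx1⟩ := hmin Γᶜ (by rw [Finset.card_compl, hΓc]; omega)
    obtain ⟨α, hα⟩ : ∃ α : Ω, x • α ≠ α := by
      by_contra h
      push Not at h
      exact hx1 (FaithfulSMul.eq_of_smul_eq_smul (α := Ω) (fun c => by rw [h c, one_smul]))
    have hαΓ : α ∈ Γ := by
      by_contra h
      exact hα (hx α (by rw [Finset.mem_compl]; exact h))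
    obtain ⟨y, hy, hy1⟩ := hmin (Γ.erase α) (by
      rw [Finset.card_erase_of_mem hαΓ, hΓc]
      have : 0 < Γ.card := Finset.card_pos.mpr ⟨α, hαΓ⟩
      omega)
    have hyα : y • α ≠ α := by
      intro h
      apply hy1
      apply hΓ
      intro z hz
      by_cases hzα : z = α
      · rw [hzα, h]
      · exact hy z (Finset.mem_erase.mpr ⟨hzα, hz⟩)
    have h3 := Cfsg.Agent.S3681.commutator_isThreeCycle (MulAction.toPermHom G Ω x) (MulAction.toPermHom G Ω y) Γ α hαΓ
      (fun ω hω => hx ω (by rw [Finset.mem_compl]; exact hω))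
      (fun ω hω hωα => hy ω (Finset.mem_erase.mpr ⟨hωα, hω⟩)) hα hyα
    have hprim' : MulAction.IsPreprimitive (MulAction.toPermHom G Ω).range Ω := by
      let f : Ω →ₑ[(MulAction.toPermHom G Ω).rangeRestrict] Ω :=
        { toFun := id
          map_smul' := fun m x => rfl }
      exact MulAction.IsPreprimitive.of_surjective (f := f) Function.surjective_id
    apply hA
    apply Equiv.Perm.alternatingGroup_le_of_isPreprimitive_of_isThreeCycle_mem hprim' h3
    refine ⟨x * y * x⁻¹ * y⁻¹, ?_⟩
    rw [map_mul, map_mul, map_mul, map_inv, map_inv]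
  exact ⟨Γ, by rw [hΓc]; exact hb, hΓ⟩

theorem base_case (n : ℕ) (IH : ∀ m, 1 ≤ m → m < n → PP m) (hn1 : 1 ≤ n) (G Ω : Type) [Group G] [Finite G] [Fintype Ω]
    [MulAction G Ω] [FaithfulSMul G Ω] (hn : Nat.card Ω = n)
    (hb : ∃ Γ : Finset Ω, 2 * Γ.card ≤ Fintype.card Ω ∧ ∀ g : G, (∀ x ∈ Γ, g • x = x) → g = 1) :
    5 * K G ≤ 5 ^ n := by
  classical
  obtain ⟨Γ, h2, hΓ⟩ := hb
  rw [← Nat.card_eq_fintype_card, hn] at h2
  by_cases h0 : Γ.card = 0
  · haveI : Subsingleton G := ⟨fun a b => by
      have ha := hΓ a (fun x hx => by rw [Finset.card_eq_zero.1 h0] at hx; exact absurd hx (Finset.notMem_empty x))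
      have hb := hΓ b (fun x hx => by rw [Finset.card_eq_zero.1 h0] at hx; exact absurd hx (Finset.notMem_empty x))
      rw [ha, hb]⟩
    rw [K_of_subsingleton]
    calc 5 * 1 = 5 ^ 1 := by norm_num
      _ ≤ 5 ^ n := Nat.pow_le_pow_right (by norm_num) hn1
  set H := MulAction.stabilizer G (Γ : Set Ω) with hH
  have hHm : ∀ h ∈ H, ∀ x, x ∈ Γ → h • x ∈ Γ := by
    intro h hh x hx
    have h1 : h • (Γ : Set Ω) = (Γ : Set Ω) := hh
    have h3 : h • x ∈ h • (Γ : Set Ω) := Set.smul_mem_smul_set (Finset.mem_coe.2 hx)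
    rw [h1] at h3
    exact h3
  letI a1 : MulAction H {x // x ∈ Γ} := subAct (G := H) (fun x => x ∈ Γ) (fun g x hx => hHm g.1 g.2 x hx)
  haveI : FaithfulSMul H {x // x ∈ Γ} := by
    constructor
    intro g g' hgg
    apply Subtype.ext
    have h1 : g.1⁻¹ * g'.1 = 1 := by
      apply hΓ
      intro x hx
      have h3 : g.1 • x = g'.1 • x := congrArg Subtype.val (hgg ⟨x, hx⟩)
      rw [mul_smul, ← h3, inv_smul_smul]
    exact inv_mul_eq_one.mp h1
  have h1 := card_le_index_mul H
  have hb1 : 1 ≤ Γ.card := Nat.one_le_iff_ne_zero.2 h0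
  have hcb : Nat.card {x // x ∈ Γ} = Γ.card := by rw [Nat.card_eq_fintype_card, Fintype.card_coe]
  have h3 := IH Γ.card hb1 (by omega) H {x // x ∈ Γ} hcb
  have hidx : H.index ≤ 2 ^ n := by
    rw [hH, MulAction.index_stabilizer, ← Nat.card_coe_set_eq]
    calc Nat.card (MulAction.orbit G (Γ : Set Ω)) ≤ Nat.card (Set Ω) :=
          Nat.card_le_card_of_injective (fun x => x.1) Subtype.val_injective
      _ = 2 ^ n := by rw [Nat.card_eq_fintype_card, Fintype.card_set, ← Nat.card_eq_fintype_card, hn]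
  obtain ⟨r, hr⟩ : ∃ r, n = Γ.card + r := ⟨n - Γ.card, by omega⟩
  have hrb : Γ.card ≤ r := by omega
  calc 5 * K G ≤ 5 * (H.index * K H) := Nat.mul_le_mul_left _ h1
    _ = H.index * (5 * K H) := by ring
    _ ≤ 2 ^ n * 5 ^ Γ.card := Nat.mul_le_mul hidx h3
    _ = (2 ^ Γ.card * 2 ^ r) * 5 ^ Γ.card := by rw [hr, pow_add]
    _ ≤ (2 ^ r * 2 ^ r) * 5 ^ Γ.card :=
        Nat.mul_le_mul_right _ (Nat.mul_le_mul_right _ (Nat.pow_le_pow_right (by norm_num) hrb))
    _ = 4 ^ r * 5 ^ Γ.card := by rw [← mul_pow]; norm_num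
    _ ≤ 5 ^ r * 5 ^ Γ.card := Nat.mul_le_mul_right _ (Nat.pow_le_pow_left (by norm_num) r)
    _ = 5 ^ n := by rw [hr, pow_add, mul_comm]

theorem K_perm {Ω : Type} [Fintype Ω] [DecidableEq Ω] : K (Equiv.Perm Ω) ≤ 2 ^ (Fintype.card Ω - 1) := by
  have h1 : K (Equiv.Perm Ω) ≤ Nat.card (Fintype.card Ω).Partition := by
    apply Nat.card_le_card_of_injective (fun c : ConjClasses (Equiv.Perm Ω) =>
      Quotient.liftOn c (fun σ => σ.partition) (fun σ τ h => Equiv.Perm.partition_eq_of_isConj.1 h))
    intro a b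
    obtain ⟨x, rfl⟩ := ConjClasses.exists_rep a
    obtain ⟨y, rfl⟩ := ConjClasses.exists_rep b
    intro h
    exact ConjClasses.mk_eq_mk_iff_isConj.2 (Equiv.Perm.partition_eq_of_isConj.2 h)
  refine h1.trans ?_
  rw [← composition_card, ← Nat.card_eq_fintype_card (α := Composition (Fintype.card Ω))]
  exact Nat.card_le_card_of_surjective _ Nat.Partition.ofComposition_surj

theorem alt_case (n : ℕ) (hn2 : 2 ≤ n) (G Ω : Type) [Group G] [Finite G] [Fintype Ω] [DecidableEq Ω]
    [MulAction G Ω] [FaithfulSMul G Ω] (hn : Nat.card Ω = n)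
    (hA : alternatingGroup Ω ≤ (MulAction.toPermHom G Ω).range) : 5 * K G ≤ 5 ^ n := by
  haveI : Nontrivial Ω := by
    rw [← Finite.one_lt_card_iff_nontrivial, hn]; omega
  have h1 : K G = K (MulAction.toPermHom G Ω).range :=
    H43.card_conj_congr (MonoidHom.ofInjective (MulAction.toPerm_injective))
  have h3 := card_sub_le (MulAction.toPermHom G Ω).range
  have h5 : (MulAction.toPermHom G Ω).range.index ≤ 2 := by
    have h6 := Subgroup.index_dvd_of_le hA
    rw [alternatingGroup.index_eq_two] at h6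
    exact Nat.le_of_dvd (by norm_num) h6
  have h7 := K_perm (Ω := Ω)
  rw [← Nat.card_eq_fintype_card, hn] at h7
  obtain ⟨m, rfl⟩ : ∃ m, n = m + 2 := ⟨n - 2, by omega⟩
  calc 5 * K G ≤ 5 * (2 * 2 ^ (m + 1)) := by
        rw [h1]
        exact Nat.mul_le_mul_left _ (h3.trans (Nat.mul_le_mul h5 h7))
    _ = 20 * 2 ^ m := by rw [pow_succ]; ring
    _ ≤ 25 * 5 ^ m := Nat.mul_le_mul (by norm_num) (Nat.pow_le_pow_left (by norm_num) m)
    _ = 5 ^ (m + 2) := by rw [pow_add]; ring

theorem block_case (n : ℕ) (IH : ∀ m, 1 ≤ m → m < n → PP m) (G Ω : Type) [Group G] [Finite G] [Finite Ω]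
    [MulAction G Ω] [FaithfulSMul G Ω] (hn : Nat.card Ω = n) [MulAction.IsPretransitive G Ω]
    (hnp : ¬ MulAction.IsPreprimitive G Ω) : 5 * K G ≤ 5 ^ n := by
  classical
  obtain ⟨B, hB, hBt⟩ : ∃ B : Set Ω, MulAction.IsBlock G B ∧ ¬ MulAction.IsTrivialBlock B := by
    by_contra hcon
    push Not at hcon
    exact hnp { isTrivialBlock_of_isBlock := fun {B} hB => hcon B hB }
  rw [MulAction.IsTrivialBlock, not_or] at hBt
  obtain ⟨hB1, hB2⟩ := hBt
  rw [Set.not_subsingleton_iff] at hB1
  obtain ⟨x, hx, y, hy, hxy⟩ := hB1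
  have huniq : ∀ (g h : G) (z : Ω), z ∈ g • B → z ∈ h • B → g • B = h • B := by
    intro g h z h1 h3
    by_contra hne
    exact Set.disjoint_left.1 (hB hne) h1 h3
  choose γ hγ using fun z : Ω => MulAction.exists_smul_eq G x z
  have hmem : ∀ z, z ∈ γ z • B := fun z => by
    have : γ z • x ∈ γ z • B := Set.smul_mem_smul_set hx
    rwa [hγ] at this
  let J := MulAction.orbit G B
  let π : Ω → J := fun z => ⟨γ z • B, ⟨γ z, rfl⟩⟩
  haveI : Nonempty J := ⟨π x⟩
  have hval : ∀ z g, z ∈ g • B → (π z).1 = g • B := fun z g h => huniq _ _ z (hmem z) h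
  refine equi n IH G Ω J hn π ?_ ?_ ?_ ?_
  · rintro ⟨_, g, rfl⟩
    exact ⟨g • x, Subtype.ext (hval _ g (Set.smul_mem_smul_set hx))⟩
  · intro g z
    apply Subtype.ext
    change (π (g • z)).1 = g • (γ z • B)
    rw [smul_smul]
    apply hval
    rw [mul_smul]
    exact Set.smul_mem_smul_set (hmem z)
  · intro hinj
    apply hxy
    apply hinj
    apply Subtype.ext
    rw [hval x 1 (by rw [one_smul]; exact hx), hval y 1 (by rw [one_smul]; exact hy)]
  · obtain ⟨z, hz⟩ : ∃ z, z ∉ B := by
      by_contra hcon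
      push Not at hcon
      exact hB2 (Set.eq_univ_of_forall hcon)
    refine ⟨x, z, fun h => hz ?_⟩
    have h1 := congrArg Subtype.val h
    rw [hval x 1 (by rw [one_smul]; exact hx), one_smul] at h1
    rw [h1]
    exact hmem z

theorem PP_all : ∀ n, 1 ≤ n → PP n := by
  intro n
  induction n using Nat.strong_induction_on with
  | _ n ih =>
    intro hn1 G Ω _ _ _ _ _ hn
    classical
    have IH : ∀ m, 1 ≤ m → m < n → PP m := fun m h1 h3 => ih m h3 h1
    haveI : Fintype Ω := Fintype.ofFinite Ω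
    by_cases h2 : n = 1
    · haveI : Subsingleton Ω := by
        rw [← Finite.card_le_one_iff_subsingleton, hn, h2]
      haveI : Subsingleton G :=
        ⟨fun a b => FaithfulSMul.eq_of_smul_eq_smul (α := Ω) (fun x => Subsingleton.elim _ _)⟩
      rw [K_of_subsingleton, h2]
      norm_num
    have hn2 : 2 ≤ n := by omega
    by_cases htr : MulAction.IsPretransitive G Ω
    · by_cases hpr : MulAction.IsPreprimitive G Ω
      · by_cases hA : alternatingGroup Ω ≤ (MulAction.toPermHom G Ω).range
        · exact alt_case n hn2 G Ω hn hA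
        · exact base_case n IH hn1 G Ω hn (exists_base hpr hA)
      · exact block_case n IH G Ω hn hpr
    · have hx : ∃ x y : Ω, MulAction.orbit G x ≠ MulAction.orbit G y := by
        by_contra hcon
        push Not at hcon
        apply htr
        constructor
        intro x y
        have : y ∈ MulAction.orbit G x := by rw [hcon x y]; exact MulAction.mem_orbit_self y
        exact this
      obtain ⟨x, y, hxy⟩ := hx
      let I := MulAction.orbitRel.Quotient G Ω
      let π : Ω → I := Quotient.mk (MulAction.orbitRel G Ω)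
      have hπ : ∀ u v : Ω, π u = π v ↔ MulAction.orbit G u = MulAction.orbit G v := by
        intro u v
        rw [MulAction.orbit_eq_iff]
        exact Quotient.eq (r := MulAction.orbitRel G Ω)
      haveI : Finite I := Quotient.finite _
      have h5 := fib n IH (Nat.card I) G Ω I π Quotient.mk_surjective
        (fun g z => by rw [hπ, MulAction.orbit_smul])
        (fun i => by
          rw [← hn]
          have : ∃ z, π z ≠ i := by
            by_contra hcon
            push Not at hcon
            exact hxy ((hπ x y).1 ((hcon x).trans (hcon y).symm))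
          obtain ⟨z, hz⟩ := this
          exact Finite.card_subtype_lt (x := z) hz) rfl
      haveI : Nonempty I := ⟨π x⟩
      have h7 : 1 ≤ Nat.card I := Nat.card_pos
      rw [hn] at h5
      calc 5 * K G ≤ 5 ^ Nat.card I * K G := by
            apply Nat.mul_le_mul_right
            calc 5 = 5 ^ 1 := by norm_num
              _ ≤ 5 ^ Nat.card I := Nat.pow_le_pow_right (by norm_num) h7
        _ ≤ 5 ^ n := h5

/-- A permutation group of degree `d` has at most `5^(d-1)` conjugacy classes. -/
theorem main (d : ℕ) (hd : 1 ≤ d) (G : Subgroup (Equiv.Perm (Fin d))) : K G ≤ 5 ^ (d - 1) := by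
  have h := PP_all d hd G (Fin d) (by simp)
  obtain ⟨m, rfl⟩ : ∃ m, d = m + 1 := ⟨d - 1, by omega⟩
  rw [pow_succ, mul_comm] at h
  exact Nat.le_of_mul_le_mul_right h (by norm_num)

end Cfsg.Agent.H2.K5
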